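import Groth.Agent.Lib.Lead.QC.BasisFamPull
import Groth.Agent.Lib.Lead.QC.SubExt

/-! # Descent of homomorphisms of finite locally free modules along a morphism `f : X ⟶ Y`
with `O_Y → f_* O_X ⇉ g_* O_{X ×_Y X}` exact. -/

universe u
open CategoryTheory Limits AlgebraicGeometry TopologicalSpace Opposite

namespace Groth.Agent.H3.DescHom
open Groth.Agent.LD.QC

section Basic
variable {X : Scheme.{u}}

/-- a section which vanishes locally vanishes. -/
lemma section_eq_zero_of_locally (M : X.Modules) {U : X.Opens} (s : Γ(M, U))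
    (h : ∀ x ∈ U, ∃ (V : X.Opens) (hV : V ≤ U), x ∈ V ∧ M.presheaf.map (homOfLE hV).op s = 0) :
    s = 0 := by
  apply section_eq_zero_of_germ
  intro x hx
  obtain ⟨V, hV, hxV, h0⟩ := h x hx
  rw [← germ_res M x hV hxV s, h0, map_zero]

lemma bijective_self_of_isBasisFam {L : X.Modules} {U : X.Opens} {n : ℕ} {e : Fin n → Γ(L, U)}
    (he : IsBasisFam L U e) :
    Function.Bijective (fun a : Fin n → Γ(X, U) => ∑ i, a i • e i) := by
  have := he U le_rfl
  simp only [res_self] at this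
  exact this

lemma app_sum_smul {M N : X.Modules} (φ : M ⟶ N) (U : X.Opens) {n : ℕ} (a : Fin n → Γ(X, U))
    (m : Fin n → Γ(M, U)) :
    φ.app U (∑ i, a i • m i) = ∑ i, a i • φ.app U (m i) := by
  refine (map_sum (φ.app U).hom _ _).trans ?_
  exact Finset.sum_congr rfl (fun i _ => Scheme.Modules.Hom.app_smul φ (a i) (m i))

end Basic

section Pb
variable {X Y : Scheme.{u}} (f : X ⟶ Y)

lemma pbSec_self (M : Y.Modules) (V : Y.Opens) (m : Γ(M, V)) :
    pbSec f M (le_refl (f ⁻¹ᵁ V)) m = unitSec f M V m := by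
  unfold pbSec
  exact res_self _ _ _

lemma pbSec_sum (M : Y.Modules) {U : X.Opens} {V : Y.Opens} (e : U ≤ f ⁻¹ᵁ V) {ι : Type*}
    (s : Finset ι) (m : ι → Γ(M, V)) :
    pbSec f M e (∑ i ∈ s, m i) = ∑ i ∈ s, pbSec f M e (m i) := by
  classical
  induction s using Finset.induction_on with
  | empty => rw [Finset.sum_empty, Finset.sum_empty, pbSec_zero]
  | insert a s ha ih => rw [Finset.sum_insert ha, Finset.sum_insert ha, pbSec_add, ih]

lemma pbSec_sum_smul (M : Y.Modules) {U : X.Opens} {V : Y.Opens} (e : U ≤ f ⁻¹ᵁ V) {n : ℕ}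
    (a : Fin n → Γ(Y, V)) (m : Fin n → Γ(M, V)) :
    pbSec f M e (∑ i, a i • m i) = ∑ i, (f.appLE V U e (a i)) • pbSec f M e (m i) := by
  rw [pbSec_sum]
  exact Finset.sum_congr rfl (fun i _ => pbSec_smul f M e (a i) (m i))

lemma pbSec_congr_inv {f g : X ⟶ Y} (h : f = g) (M : Y.Modules) {U : X.Opens} {V : Y.Opens}
    (e : U ≤ f ⁻¹ᵁ V) (e' : U ≤ g ⁻¹ᵁ V) (m : Γ(M, V)) :
    ((Scheme.Modules.pullbackCongr h).inv.app M).app U (pbSec g M e' m) = pbSec f M e m := by
  subst h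
  rfl

/-- if `O_Y → f_* O_X` is injective on all opens, the unit `M → f_* f^* M` is injective on all
sections for finite locally free `M`. -/
theorem unit_app_injective (hinj : ∀ U : Y.Opens, Function.Injective (f.app U)) (M : Y.Modules)
    (hM : FlatMod.IsFinLocFree M) (V : Y.Opens) :
    Function.Injective
      (((Scheme.Modules.pullbackPushforwardAdjunction f).unit.app M).app V) := by
  haveI := qc_of_isFinLocFree M hM
  have key : ∀ m : Γ(M, V), unitSec f M V m = 0 → m = 0 := by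
    intro m hm
    apply section_eq_zero_of_locally
    intro y hy
    obtain ⟨U, n, e, hyU, he⟩ := exists_isBasisFam_of_isFinLocFree M hM y
    have hW : U ⊓ V ≤ V := inf_le_right
    refine ⟨U ⊓ V, hW, ⟨hyU, hy⟩, ?_⟩
    have he' := he.mono (inf_le_left : U ⊓ V ≤ U)
    obtain ⟨a, ha⟩ := (bijective_self_of_isBasisFam he').2 (M.presheaf.map (homOfLE hW).op m)
    have ha' : ∑ i, a i • M.presheaf.map (homOfLE (inf_le_left : U ⊓ V ≤ U)).op (e i) =
      M.presheaf.map (homOfLE hW).op m := ha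
    have hpb := he'.pullback f (le_refl (f ⁻¹ᵁ (U ⊓ V)))
    have h0 : pbSec f M (le_refl (f ⁻¹ᵁ (U ⊓ V))) (M.presheaf.map (homOfLE hW).op m) = 0 := by
      rw [pbSec_self, unitSec_res, hm, map_zero]
    rw [← ha', pbSec_sum_smul] at h0
    have hb : (fun i => f.appLE (U ⊓ V) (f ⁻¹ᵁ (U ⊓ V)) (le_refl _) (a i)) = 0 := by
      apply (bijective_self_of_isBasisFam hpb).1
      refine h0.trans ?_
      simp
    have ha0 : ∀ i, a i = 0 := by
      intro i
      apply hinj (U ⊓ V)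
      rw [map_zero, Scheme.Hom.app_eq_appLE]
      exact congrFun hb i
    rw [← ha']
    simp [ha0]
  refine (injective_iff_map_eq_zero
    (((Scheme.Modules.pullbackPushforwardAdjunction f).unit.app M).app V).hom).mpr ?_
  intro m hm
  exact key m hm

end Pb

section Chain
variable {P X Y : Scheme.{u}} (f : X ⟶ Y)

lemma chain (p : P ⟶ X) (L M : Y.Modules)
    (φ : (Scheme.Modules.pullback f).obj L ⟶ (Scheme.Modules.pullback f).obj M)
    {W : Y.Opens} {n : ℕ} (e : Fin n → Γ(M, W)) (ℓ : Γ(L, W)) (a : Fin n → Γ(X, f ⁻¹ᵁ W))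
    (ha : φ.app (f ⁻¹ᵁ W) (pbSec f L (le_refl (f ⁻¹ᵁ W)) ℓ) =
      ∑ i, a i • pbSec f M (le_refl (f ⁻¹ᵁ W)) (e i))
    (G : P.Opens) (h : G ≤ p ⁻¹ᵁ (f ⁻¹ᵁ W)) (hG : G ≤ (p ≫ f) ⁻¹ᵁ W) :
    ((Scheme.Modules.pullbackComp p f).hom.app M).app G
      (((Scheme.Modules.pullback p).map φ).app G
        (((Scheme.Modules.pullbackComp p f).inv.app L).app G (pbSec (p ≫ f) L hG ℓ))) =
    ∑ i, p.appLE (f ⁻¹ᵁ W) G h (a i) • pbSec (p ≫ f) M hG (e i) := by
  rw [pbSec_comp p f L h (le_refl (f ⁻¹ᵁ W)) hG ℓ, pbSec_naturality, ha,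
    pbSec_sum_smul p _ h a (fun i => pbSec f M (le_refl (f ⁻¹ᵁ W)) (e i)), app_sum_smul]
  refine Finset.sum_congr rfl (fun i _ => ?_)
  rw [pbSec_comp' p f M h (le_refl (f ⁻¹ᵁ W)) hG (e i)]

/-- the coefficients of `φ(ℓ)` in a pulled back local basis have equal pullbacks along `p₁`, `p₂`
when `p₁^* φ` and `p₂^* φ` agree. -/
theorem appLE_eq_of_compat (p₁ p₂ : P ⟶ X) (hc : p₁ ≫ f = p₂ ≫ f) (L M : Y.Modules)
    [M.IsQuasicoherent]
    (φ : (Scheme.Modules.pullback f).obj L ⟶ (Scheme.Modules.pullback f).obj M)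
    (hφ : (Scheme.Modules.pullbackComp p₁ f).inv.app L ≫ (Scheme.Modules.pullback p₁).map φ ≫
        (Scheme.Modules.pullbackComp p₁ f).hom.app M =
      (Scheme.Modules.pullbackCongr hc).hom.app L ≫ (Scheme.Modules.pullbackComp p₂ f).inv.app L ≫
        (Scheme.Modules.pullback p₂).map φ ≫ (Scheme.Modules.pullbackComp p₂ f).hom.app M ≫
        (Scheme.Modules.pullbackCongr hc).inv.app M)
    {W : Y.Opens} {n : ℕ} {e : Fin n → Γ(M, W)} (he : IsBasisFam M W e) (ℓ : Γ(L, W))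
    (a : Fin n → Γ(X, f ⁻¹ᵁ W))
    (ha : φ.app (f ⁻¹ᵁ W) (pbSec f L (le_refl (f ⁻¹ᵁ W)) ℓ) =
      ∑ i, a i • pbSec f M (le_refl (f ⁻¹ᵁ W)) (e i))
    (G : P.Opens) (h1 : G ≤ p₁ ⁻¹ᵁ (f ⁻¹ᵁ W)) (h2 : G ≤ p₂ ⁻¹ᵁ (f ⁻¹ᵁ W)) (i : Fin n) :
    p₁.appLE (f ⁻¹ᵁ W) G h1 (a i) = p₂.appLE (f ⁻¹ᵁ W) G h2 (a i) := by
  have hG1 : G ≤ (p₁ ≫ f) ⁻¹ᵁ W := h1
  have hG2 : G ≤ (p₂ ≫ f) ⁻¹ᵁ W := h2
  have hE := he.pullback (p₁ ≫ f) hG1
  have hsec := congr($(hφ).app G (pbSec (p₁ ≫ f) L hG1 ℓ))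
  have hL := chain f p₁ L M φ e ℓ a ha G h1 hG1
  have hR := chain f p₂ L M φ e ℓ a ha G h2 hG2
  have hR' : ((Scheme.Modules.pullbackCongr hc).inv.app M).app G
      (((Scheme.Modules.pullbackComp p₂ f).hom.app M).app G
        (((Scheme.Modules.pullback p₂).map φ).app G
          (((Scheme.Modules.pullbackComp p₂ f).inv.app L).app G
            (((Scheme.Modules.pullbackCongr hc).hom.app L).app G
              (pbSec (p₁ ≫ f) L hG1 ℓ))))) =
      ∑ i, p₂.appLE (f ⁻¹ᵁ W) G h2 (a i) • pbSec (p₁ ≫ f) M hG1 (e i) := by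
    rw [pbSec_congr hc L hG1 hG2 ℓ, hR, app_sum_smul]
    refine Finset.sum_congr rfl (fun i _ => ?_)
    rw [pbSec_congr_inv hc M hG1 hG2 (e i)]
  have hfin : ∑ i, p₁.appLE (f ⁻¹ᵁ W) G h1 (a i) • pbSec (p₁ ≫ f) M hG1 (e i) =
      ∑ i, p₂.appLE (f ⁻¹ᵁ W) G h2 (a i) • pbSec (p₁ ≫ f) M hG1 (e i) :=
    hL.symm.trans (hsec.trans hR')
  exact congrFun ((bijective_self_of_isBasisFam hE).1 hfin) i

end Chain

section Main
variable {X Y : Scheme.{u}} (f : X ⟶ Y)

/-- locally (where `M` has a basis), `φ` maps unit sections to unit sections. -/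
theorem exists_eq_unitSec
    (hU : ∀ U : Y.Opens, (pullback.fst f f) ⁻¹ᵁ (f ⁻¹ᵁ U) = (pullback.snd f f) ⁻¹ᵁ (f ⁻¹ᵁ U))
    (hex : ∀ (U : Y.Opens) (a : Γ(X, f ⁻¹ᵁ U)),
      (pullback.fst f f).app (f ⁻¹ᵁ U) a =
        ((pullback f f).presheaf.map (eqToHom (hU U)).op) ((pullback.snd f f).app (f ⁻¹ᵁ U) a) →
      a ∈ Set.range (f.app U))
    (L M : Y.Modules) [M.IsQuasicoherent]
    (φ : (Scheme.Modules.pullback f).obj L ⟶ (Scheme.Modules.pullback f).obj M)
    (hφ : (Scheme.Modules.pullbackComp (pullback.fst f f) f).inv.app L ≫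
        (Scheme.Modules.pullback (pullback.fst f f)).map φ ≫
        (Scheme.Modules.pullbackComp (pullback.fst f f) f).hom.app M =
      (Scheme.Modules.pullbackCongr (pullback.condition (f := f) (g := f))).hom.app L ≫
        (Scheme.Modules.pullbackComp (pullback.snd f f) f).inv.app L ≫
        (Scheme.Modules.pullback (pullback.snd f f)).map φ ≫
        (Scheme.Modules.pullbackComp (pullback.snd f f) f).hom.app M ≫
        (Scheme.Modules.pullbackCongr (pullback.condition (f := f) (g := f))).inv.app M)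
    {W : Y.Opens} {n : ℕ} {e : Fin n → Γ(M, W)} (he : IsBasisFam M W e) (ℓ : Γ(L, W)) :
    ∃ m : Γ(M, W), φ.app (f ⁻¹ᵁ W) (unitSec f L W ℓ) = unitSec f M W m := by
  have hpb := he.pullback f (le_refl (f ⁻¹ᵁ W))
  obtain ⟨a, ha⟩ := (bijective_self_of_isBasisFam hpb).2
    (φ.app (f ⁻¹ᵁ W) (pbSec f L (le_refl (f ⁻¹ᵁ W)) ℓ))
  have ha' : φ.app (f ⁻¹ᵁ W) (pbSec f L (le_refl (f ⁻¹ᵁ W)) ℓ) =
      ∑ i, a i • pbSec f M (le_refl (f ⁻¹ᵁ W)) (e i) := ha.symm
  have hb : ∀ i, ∃ b : Γ(Y, W), f.app W b = a i := by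
    intro i
    apply hex W (a i)
    have h2 : (pullback.fst f f) ⁻¹ᵁ (f ⁻¹ᵁ W) ≤ (pullback.snd f f) ⁻¹ᵁ (f ⁻¹ᵁ W) := (hU W).le
    have key := appLE_eq_of_compat f (pullback.fst f f) (pullback.snd f f) pullback.condition L M φ
      hφ he ℓ a ha' ((pullback.fst f f) ⁻¹ᵁ (f ⁻¹ᵁ W)) (le_refl _) h2 i
    rw [Scheme.Hom.appLE_eq_app] at key
    have e1 : homOfLE h2 = eqToHom (hU W) := Subsingleton.elim _ _
    rw [key, Scheme.Hom.appLE, e1]
    rfl
  choose b hb using hb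
  refine ⟨∑ i, b i • e i, ?_⟩
  rw [← pbSec_self, ← pbSec_self, ha', pbSec_sum_smul]
  refine Finset.sum_congr rfl (fun i _ => ?_)
  rw [Scheme.Hom.appLE_eq_app, hb]

/-- abstract nonsense: lifting through a monic unit. -/
lemma existsUnique_of_adj {C D : Type*} [Category C] [Category D] [Abelian C] {F : C ⥤ D}
    {G : D ⥤ C} (adj : F ⊣ G) {L M : C} [Mono (adj.unit.app M)] (φ : F.obj L ⟶ F.obj M)
    (h0 : (adj.unit.app L ≫ G.map φ) ≫ cokernel.π (adj.unit.app M) = 0) :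
    ∃! ψ : L ⟶ M, F.map ψ = φ := by
  have hEq : ∀ ψ' : L ⟶ M, F.map ψ' = φ ↔ ψ' ≫ adj.unit.app M = adj.unit.app L ≫ G.map φ := by
    intro ψ'
    have hn : ψ' ≫ adj.unit.app M = adj.unit.app L ≫ G.map (F.map ψ') := adj.unit.naturality ψ'
    constructor
    · intro h
      rw [hn, h]
    · intro h
      apply (adj.homEquiv _ _).injective
      rw [Adjunction.homEquiv_unit, Adjunction.homEquiv_unit, ← hn, h]
  refine ⟨Abelian.monoLift (adj.unit.app M) _ h0,
    (hEq _).mpr (Abelian.monoLift_comp (adj.unit.app M) _ h0), fun ψ' h' => ?_⟩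
  rw [← cancel_mono (adj.unit.app M), Abelian.monoLift_comp]
  exact (hEq ψ').mp h'

/-- **descent of homomorphisms of finite locally free modules.** -/
theorem existsUnique_descend
    (hU : ∀ U : Y.Opens, (pullback.fst f f) ⁻¹ᵁ (f ⁻¹ᵁ U) = (pullback.snd f f) ⁻¹ᵁ (f ⁻¹ᵁ U))
    (hinj : ∀ U : Y.Opens, Function.Injective (f.app U))
    (hex : ∀ (U : Y.Opens) (a : Γ(X, f ⁻¹ᵁ U)),
      (pullback.fst f f).app (f ⁻¹ᵁ U) a =
        ((pullback f f).presheaf.map (eqToHom (hU U)).op) ((pullback.snd f f).app (f ⁻¹ᵁ U) a) →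
      a ∈ Set.range (f.app U))
    (L M : Y.Modules) (hM : FlatMod.IsFinLocFree M)
    (φ : (Scheme.Modules.pullback f).obj L ⟶ (Scheme.Modules.pullback f).obj M)
    (hφ : (Scheme.Modules.pullbackComp (pullback.fst f f) f).inv.app L ≫
        (Scheme.Modules.pullback (pullback.fst f f)).map φ ≫
        (Scheme.Modules.pullbackComp (pullback.fst f f) f).hom.app M =
      (Scheme.Modules.pullbackCongr (pullback.condition (f := f) (g := f))).hom.app L ≫
        (Scheme.Modules.pullbackComp (pullback.snd f f) f).inv.app L ≫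
        (Scheme.Modules.pullback (pullback.snd f f)).map φ ≫
        (Scheme.Modules.pullbackComp (pullback.snd f f) f).hom.app M ≫
        (Scheme.Modules.pullbackCongr (pullback.condition (f := f) (g := f))).inv.app M) :
    ∃! ψ : L ⟶ M, (Scheme.Modules.pullback f).map ψ = φ := by
  haveI := qc_of_isFinLocFree M hM
  haveI : Mono ((Scheme.Modules.pullbackPushforwardAdjunction f).unit.app M) :=
    mono_of_injective_app _ (unit_app_injective f hinj M hM)
  apply existsUnique_of_adj (Scheme.Modules.pullbackPushforwardAdjunction f) φ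
  have key : ∀ (V : Y.Opens) (ℓ : Γ(L, V)),
      (cokernel.π ((Scheme.Modules.pullbackPushforwardAdjunction f).unit.app M)).app V
        (((Scheme.Modules.pullbackPushforwardAdjunction f).unit.app L ≫
          (Scheme.Modules.pushforward f).map φ).app V ℓ) = 0 := by
    intro V ℓ
    apply section_eq_zero_of_locally
    intro y hy
    obtain ⟨U, n, e, hyU, he⟩ := exists_isBasisFam_of_isFinLocFree M hM y
    have hW : U ⊓ V ≤ V := inf_le_right
    refine ⟨U ⊓ V, hW, ⟨hyU, hy⟩, ?_⟩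
    have he' := he.mono (inf_le_left : U ⊓ V ≤ U)
    obtain ⟨m, hm⟩ := exists_eq_unitSec f hU hex L M φ hφ he' (L.presheaf.map (homOfLE hW).op ℓ)
    have h1 : ((Scheme.Modules.pullbackPushforwardAdjunction f).unit.app L ≫
          (Scheme.Modules.pushforward f).map φ).app (U ⊓ V) (L.presheaf.map (homOfLE hW).op ℓ) =
        ((Scheme.Modules.pullbackPushforwardAdjunction f).unit.app M).app (U ⊓ V) m := hm
    have r1 := app_res (cokernel.π ((Scheme.Modules.pullbackPushforwardAdjunction f).unit.app M)) hW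
      (((Scheme.Modules.pullbackPushforwardAdjunction f).unit.app L ≫
          (Scheme.Modules.pushforward f).map φ).app V ℓ)
    have r2 := app_res ((Scheme.Modules.pullbackPushforwardAdjunction f).unit.app L ≫
          (Scheme.Modules.pushforward f).map φ) hW ℓ
    have h2 : (Scheme.Modules.pullbackPushforwardAdjunction f).unit.app M ≫
        cokernel.π ((Scheme.Modules.pullbackPushforwardAdjunction f).unit.app M) = 0 :=
      cokernel.condition _
    exact r1.symm.trans ((congrArg (fun x =>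
      (cokernel.π ((Scheme.Modules.pullbackPushforwardAdjunction f).unit.app M)).app (U ⊓ V) x)
      (r2.symm.trans h1)).trans congr($(h2).app (U ⊓ V) m))
  apply Scheme.Modules.hom_ext
  intro V
  ext ℓ
  exact key V ℓ

end Main

end Groth.Agent.H3.DescHom
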